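import Mathlib

set_option autoImplicit false
universe u
open CategoryTheory Limits AlgebraicGeometry

namespace Groth.Agent.ThickLib

variable {X X' S S' : Scheme.{u}}

/-- If `f ≫ i` has a base change stable property and `i` is a monomorphism, so does `f`. -/
theorem of_comp_mono (P : MorphismProperty Scheme.{u}) [P.IsStableUnderBaseChange]
    [P.RespectsIso] (f : X ⟶ S) (i : S ⟶ S') [Mono i] (h : P (f ≫ i)) : P f := by
  let l := pullback.lift (𝟙 X) f (show 𝟙 X ≫ f ≫ i = f ≫ i from Category.id_comp _)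
  have hl : l ≫ pullback.snd (f ≫ i) i = f := pullback.lift_snd _ _ _
  have : IsIso l := ⟨pullback.fst (f ≫ i) i, pullback.lift_fst _ _ _, by
    refine pullback.hom_ext ?_ ?_
    · rw [Category.assoc, pullback.lift_fst, Category.comp_id, Category.id_comp]
    · rw [Category.assoc, hl, Category.id_comp, ← cancel_mono i, Category.assoc]
      exact pullback.condition⟩
  rw [← hl]
  exact (P.cancel_left_of_respectsIso l _).mpr (MorphismProperty.pullback_snd _ _ h)

theorem quasiCompact_of_comp_surjective (g : X ⟶ X') (f : X' ⟶ S) [Surjective g]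
    [QuasiCompact (g ≫ f)] : QuasiCompact f := by
  refine ⟨fun U hU hU' => ?_⟩
  have h : IsCompact ((g ≫ f) ⁻¹' U) := QuasiCompact.isCompact_preimage _ hU hU'
  have := h.image g.continuous
  rwa [Scheme.Hom.comp_base, TopCat.coe_comp, Set.preimage_comp,
    Set.image_preimage_eq _ g.surjective] at this

theorem universallyInjective_of_comp_surjective (g : X ⟶ X') (f : X' ⟶ S) [Surjective g]
    [h : UniversallyInjective (g ≫ f)] : UniversallyInjective f := by
  rw [universallyInjective_eq] at h ⊢
  intro P Q i₁ i₂ p H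
  have H2 := (IsPullback.of_hasPullback i₁ g)
  have hp := h _ _ _ (H2.paste_horiz H)
  have hs : Function.Surjective (pullback.fst i₁ g) := (inferInstance : Surjective (pullback.fst i₁ g)).1
  intro a b hab
  obtain ⟨a', rfl⟩ := hs a
  obtain ⟨b', rfl⟩ := hs b
  exact congrArg (pullback.fst i₁ g) (hp hab)

theorem quasiSeparated_of_comp (g : X ⟶ X') (f : X' ⟶ S) [IsClosedImmersion g] [Surjective g]
    [QuasiSeparated (g ≫ f)] : QuasiSeparated f := by
  rw [HasAffineProperty.eq_targetAffineLocally (P := @QuasiSeparated)]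
  intro U
  have h : IsQuasiSeparated ((g ≫ f) ⁻¹ᵁ U.1 : Set X) :=
    (g ≫ f).isQuasiSeparated_preimage U.2.isQuasiSeparated
  have h2 := h.image_of_isEmbedding g.isClosedEmbedding.isEmbedding
  have e : g '' ((g ≫ f) ⁻¹ᵁ U.1 : Set X) = (f ⁻¹ᵁ U.1 : Set X') := by
    show g '' (g ⁻¹' (f ⁻¹' (U.1 : Set S))) = f ⁻¹' (U.1 : Set S)
    exact Set.image_preimage_eq _ g.surjective
  rw [e] at h2
  exact (isQuasiSeparated_iff_quasiSeparatedSpace _ (f ⁻¹ᵁ U.1).2).mp h2

end Groth.Agent.ThickLib
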